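import Groth.Prelude.Def_VecGrp
import Mathlib.AlgebraicGeometry.Morphisms.Flat

/-!
# Finitely many flat affine charts of a flat quasi-compact scheme over an affine base
-/

set_option autoImplicit false
set_option backward.isDefEq.respectTransparency false
set_option backward.isDefEq.respectTransparency.types false
universe u

open CategoryTheory AlgebraicGeometry TopologicalSpace

namespace GModFinLib

variable {R : Type u} [CommRing R] (G : Over (Spec (CommRingCat.of R)))

/-- Finitely many flat affine charts, through which every point factors locally. -/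
structure Charts where
  /-- the index set -/
  I : Type u
  fin : Finite I
  /-- the rings -/
  B : I → Type u
  ring : ∀ i, CommRing (B i)
  alg : ∀ i, Algebra R (B i)
  /-- the charts -/
  g : ∀ i, VecGrp.pt R (B i) ⟶ G
  flat : ∀ i, Module.Flat R (B i)
  loc : ∀ (C : Type u) [CommRing C] [Algebra R C] (h : VecGrp.pt R C ⟶ G),
    ∃ s : Set C, Ideal.span s = ⊤ ∧ ∀ f ∈ s, ∃ (i : I) (φ : B i →ₐ[R] Localization.Away f),
      VecGrp.ptMap ((Algebra.ofId C (Localization.Away f)).restrictScalars R) ≫ h = VecGrp.ptMap φ ≫ g i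

attribute [instance] Charts.fin Charts.ring Charts.alg

/-- There are charts which are open immersions. -/
theorem exists_charts_isOpenImmersion [Flat G.hom] [QuasiCompact G.hom] :
    ∃ ch : Charts G, ∀ i, IsOpenImmersion (ch.g i).left := by
  haveI : CompactSpace G.left := QuasiCompact.compactSpace_of_compactSpace G.hom
  let 𝒰 := G.left.affineCover.finiteSubcover
  let B : 𝒰.I₀ → CommRingCat := fun i => Γ(𝒰.X i, ⊤)
  let j : ∀ i, Spec (B i) ⟶ G.left := fun i => (𝒰.X i).isoSpec.inv ≫ 𝒰.f i
  let ψ : ∀ i, CommRingCat.of R ⟶ B i := fun i => Spec.preimage (j i ≫ G.hom)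
  letI alg : ∀ i, Algebra R (B i) := fun i => (ψ i).hom.toAlgebra
  have hψ : ∀ i, Spec.map (CommRingCat.ofHom (algebraMap R (B i))) = j i ≫ G.hom := fun i =>
    Spec.map_preimage _
  refine ⟨{ I := ULift.{u} 𝒰.I₀, fin := inferInstance, B := fun i => B i.down, ring := fun i => inferInstance,
            alg := fun i => alg i.down, g := fun i => Over.homMk (j i.down) (hψ i.down).symm,
            flat := fun i => ?_, loc := fun C _ _ h => ?_ }, fun i => show IsOpenImmersion (j i.down) from inferInstance⟩
  · haveI : Flat (Spec.map (CommRingCat.ofHom (algebraMap R (B i.down)))) := by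
      rw [hψ]
      infer_instance
    exact (HasRingHomProperty.Spec_iff (P := @Flat)).1 this
  · let hs : Spec (CommRingCat.of C) ⟶ G.left := h.left
    refine ⟨{f | ∃ i, ((PrimeSpectrum.basicOpen f : Opens (PrimeSpectrum C)) : Set (PrimeSpectrum C)) ⊆ hs ⁻¹' Set.range (j i)}, ?_, ?_⟩
    · rw [← PrimeSpectrum.iSup_basicOpen_eq_top_iff', eq_top_iff]
      intro x _
      obtain ⟨i, y, hy⟩ := 𝒰.exists_eq (hs x)
      have hx : x ∈ hs ⁻¹ᵁ (j i).opensRange :=
        ⟨(𝒰.X i).isoSpec.hom y, by rw [← Scheme.Hom.comp_apply, Iso.hom_inv_id_assoc]; exact hy⟩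
      obtain ⟨_, ⟨f, rfl⟩, hxf, hf⟩ := PrimeSpectrum.isTopologicalBasis_basic_opens.exists_subset_of_mem_open hx
        (hs ⁻¹ᵁ (j i).opensRange).2
      exact Opens.mem_iSup.2 ⟨f, Opens.mem_iSup.2 ⟨⟨i, hf⟩, hxf⟩⟩
    · rintro f ⟨i, hf⟩
      let a : Spec (CommRingCat.of (Localization.Away f)) ⟶ Spec (CommRingCat.of C) :=
        Spec.map (CommRingCat.ofHom (algebraMap C (Localization.Away f)))
      have hra : Set.range (a ≫ hs) ⊆ Set.range (j i) := by
        rintro _ ⟨z, rfl⟩
        apply hf
        exact (PrimeSpectrum.localization_away_comap_range (Localization.Away f) f).le ⟨z, rfl⟩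
      let b := IsOpenImmersion.lift (j i) (a ≫ hs) hra
      have hb : b ≫ j i = a ≫ hs := IsOpenImmersion.lift_fac _ _ _
      refine ⟨⟨i⟩, { toRingHom := (Spec.preimage b).hom, commutes' := fun r => ?_ }, Over.OverMorphism.ext ?_⟩
      · have e : CommRingCat.ofHom (algebraMap R (B i)) ≫ Spec.preimage b =
            CommRingCat.ofHom (algebraMap R (Localization.Away f)) := Spec.map_injective (by
          rw [Spec.map_comp, Spec.map_preimage, hψ, reassoc_of% hb]
          refine (congrArg (a ≫ ·) (Over.w h)).trans ?_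
          change a ≫ Spec.map _ = _
          rw [← Spec.map_comp, ← CommRingCat.ofHom_comp, ← IsScalarTower.algebraMap_eq])
        exact congr($e r)
      · change Spec.map _ ≫ hs = Spec.map (Spec.preimage b) ≫ j i
        rw [Spec.map_preimage, hb]
        rfl

theorem nonempty_charts [Flat G.hom] [QuasiCompact G.hom] : Nonempty (Charts G) :=
  ⟨(exists_charts_isOpenImmersion G).choose⟩

end GModFinLib
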