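import Groth.Agent.GModFinLib.Main
import Mathlib.AlgebraicGeometry.GammaSpecAdjunction
import Mathlib.AlgebraicGeometry.Morphisms.QuasiSeparated

/-!
# Global functions on a quasi-compact quasi-separated scheme as an equaliser of charts
-/

set_option autoImplicit false
set_option backward.isDefEq.respectTransparency false
universe u

open CategoryTheory Limits Opposite AlgebraicGeometry
open scoped TensorProduct

namespace GModFinLib

open VecGrp

variable {R : Type u} [CommRing R] {G : Over (Spec (CommRingCat.of R))}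

/-- The structure map of the ring of global functions. -/
noncomputable abbrev globAlg (G : Over (Spec (CommRingCat.of R))) : Algebra R Γ(G.left, ⊤) :=
  (((Scheme.ΓSpecIso (CommRingCat.of R)).inv ≫ G.hom.appTop).hom).toAlgebra

attribute [local instance] globAlg

variable {B C : Type u} [CommRing B] [Algebra R B] [CommRing C] [Algebra R C]

/-- The value of global functions at a point. -/
noncomputable def ptVal (h : pt R C ⟶ G) : Γ(G.left, ⊤) →ₐ[R] C where
  toRingHom := ((h.left : Spec (CommRingCat.of C) ⟶ G.left).appTop ≫ (Scheme.ΓSpecIso (CommRingCat.of C)).hom).hom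
  commutes' r := by
    have e : ((Scheme.ΓSpecIso (CommRingCat.of R)).inv ≫ G.hom.appTop) ≫
        ((h.left : Spec (CommRingCat.of C) ⟶ G.left).appTop ≫ (Scheme.ΓSpecIso (CommRingCat.of C)).hom) =
        CommRingCat.ofHom (algebraMap R C) := by
      rw [Category.assoc, ← Category.assoc G.hom.appTop, ← Scheme.Hom.comp_appTop,
        show (h.left : Spec (CommRingCat.of C) ⟶ G.left) ≫ G.hom = Spec.map (CommRingCat.ofHom (algebraMap R C)) from Over.w h,
        Scheme.ΓSpecIso_naturality, Iso.inv_hom_id_assoc]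
    exact congr($e r)

theorem ptVal_comp (φ : B →ₐ[R] C) (h : pt R B ⟶ G) (a : Γ(G.left, ⊤)) :
    ptVal (ptMap φ ≫ h) a = φ (ptVal h a) := by
  change ((Spec.map (CommRingCat.ofHom φ.toRingHom) ≫ (h.left : Spec (CommRingCat.of B) ⟶ G.left)).appTop ≫
    (Scheme.ΓSpecIso (CommRingCat.of C)).hom) a = φ ((h.left.appTop ≫ (Scheme.ΓSpecIso (CommRingCat.of B)).hom) a)
  rw [Scheme.Hom.comp_appTop, Category.assoc, Scheme.ΓSpecIso_naturality]
  rfl

/-- The coordinate ring of the affine line over the integers. -/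
noncomputable abbrev T : CommRingCat.{u} := CommRingCat.of (Polynomial (ULift.{u} ℤ))

/-- Evaluation at `s`. -/
noncomputable def ev (S : CommRingCat.{u}) (s : S) : T ⟶ S :=
  CommRingCat.ofHom (Polynomial.eval₂RingHom ((Int.castRingHom S).comp ULift.ringEquiv.toRingHom) s)

@[simp] theorem ev_X (S : CommRingCat.{u}) (s : S) : ev S s Polynomial.X = s := by simp [ev]

theorem ev_comp {S S' : CommRingCat.{u}} (f : S ⟶ S') (s : S) : ev S s ≫ f = ev S' (f s) := by
  ext : 1
  refine Polynomial.ringHom_ext' ?_ (show f (ev S s Polynomial.X) = ev S' (f s) Polynomial.X by rw [ev_X, ev_X])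
  refine RingHom.ext fun a => ?_
  obtain ⟨n⟩ := a
  simp [ev]

/-- The value at the coordinate of a morphism to the affine line. -/
noncomputable def coord {X : Scheme.{u}} (f : X ⟶ Spec T) : Γ(X, ⊤) :=
  f.appTop ((Scheme.ΓSpecIso T).inv Polynomial.X)

theorem coord_toSpecΓ {X : Scheme.{u}} (a : Γ(X, ⊤)) : coord (X.toSpecΓ ≫ Spec.map (ev _ a)) = a := by
  change ((Scheme.ΓSpecIso T).inv ≫ (X.toSpecΓ ≫ Spec.map (ev _ a)).appTop) Polynomial.X = a
  rw [Scheme.Hom.comp_appTop, ← Category.assoc, ← Scheme.ΓSpecIso_inv_naturality, Category.assoc,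
    Scheme.toSpecΓ_appTop, Iso.inv_hom_id, Category.comp_id, ev_X]

theorem comp_toSpecΓ {X : Scheme.{u}} {S : CommRingCat.{u}} (h : Spec S ⟶ X) (a : Γ(X, ⊤)) :
    h ≫ X.toSpecΓ ≫ Spec.map (ev _ a) = Spec.map (ev S ((Scheme.ΓSpecIso S).hom (h.appTop a))) := by
  rw [Scheme.toSpecΓ_naturality_assoc, ← SpecMap_ΓSpecIso_hom, ← Spec.map_comp, ← Spec.map_comp,
    ev_comp, ev_comp]

theorem coord_comp {X : Scheme.{u}} {S : CommRingCat.{u}} (f : X ⟶ Spec T) (h : Spec S ⟶ X) :
    (Scheme.ΓSpecIso S).hom (h.appTop (coord f)) = Spec.preimage (h ≫ f) Polynomial.X := by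
  change ((Scheme.ΓSpecIso T).inv ≫ f.appTop ≫ h.appTop ≫ (Scheme.ΓSpecIso S).hom) Polynomial.X = _
  rw [← Category.assoc f.appTop, ← Scheme.Hom.comp_appTop]
  conv_lhs => rw [← Spec.map_preimage (h ≫ f)]
  rw [Scheme.ΓSpecIso_naturality, Iso.inv_hom_id_assoc]

variable (ch : Charts G)

theorem exists_preimage_of_charts (x : G.left) :
    ∃ (i : ch.I) (y : Spec (CommRingCat.of (ch.B i))), (ch.g i).left y = x := by
  let K : Type u := G.left.residueField x
  let ψ : CommRingCat.of R ⟶ CommRingCat.of K := Spec.preimage (G.left.fromSpecResidueField x ≫ G.hom)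
  letI : Algebra R K := ψ.hom.toAlgebra
  let h : pt R K ⟶ G := Over.homMk (G.left.fromSpecResidueField x) (Spec.map_preimage _).symm
  obtain ⟨s, hs, hloc⟩ := ch.loc K h
  obtain ⟨f, hf, hf0⟩ : ∃ f ∈ s, f ≠ (0 : K) := by
    by_contra! H
    exact one_ne_zero ((Ideal.span_eq_bot.2 H).symm.trans hs |>.symm ▸ Submodule.mem_top : (1 : K) ∈ (⊥ : Ideal K))
  obtain ⟨i, φ, hφ⟩ := hloc f hf
  haveI : Nontrivial (Localization.Away f) := by
    refine not_subsingleton_iff_nontrivial.1 fun H => ?_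
    obtain ⟨n, hn⟩ := (IsLocalization.subsingleton_iff (M := Submonoid.powers f) (S := Localization.Away f)).1 H
    exact pow_ne_zero n hf0 hn
  let z : Spec (CommRingCat.of (Localization.Away f)) := Classical.arbitrary (PrimeSpectrum (Localization.Away f))
  refine ⟨i, (ptMap φ).left z, ?_⟩
  change ((ptMap φ ≫ ch.g i).left) z = x
  rw [← hφ]
  change G.left.fromSpecResidueField x _ = x
  exact Scheme.fromSpecResidueField_apply _ _

/-- Finitely many overlaps of charts. -/
structure Overlaps where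
  /-- the index set -/
  K : Type u
  fin : Finite K
  /-- the rings -/
  C : K → Type u
  ring : ∀ c, CommRing (C c)
  alg : ∀ c, Algebra R (C c)
  /-- the first chart -/
  src : K → ch.I
  /-- the second chart -/
  tgt : K → ch.I
  /-- the first restriction -/
  φ : ∀ c, ch.B (src c) →ₐ[R] C c
  /-- the second restriction -/
  ψ : ∀ c, ch.B (tgt c) →ₐ[R] C c
  comm : ∀ c, ptMap (φ c) ≫ ch.g (src c) = ptMap (ψ c) ≫ ch.g (tgt c)
  inj : ∀ a : Γ(G.left, ⊤), (∀ i, ptVal (ch.g i) a = 0) → a = 0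
  glue : ∀ b : ∀ i, ch.B i, (∀ c, φ c (b (src c)) = ψ c (b (tgt c))) →
    ∃ a : Γ(G.left, ⊤), ∀ i, ptVal (ch.g i) a = b i

attribute [instance] Overlaps.fin Overlaps.ring Overlaps.alg

theorem nonempty_overlaps [QuasiSeparated G.hom] (himm : ∀ i, IsOpenImmersion (ch.g i).left) :
    Nonempty (Overlaps ch) := by
  let j : ∀ i, Spec (CommRingCat.of (ch.B i)) ⟶ G.left := fun i => (ch.g i).left
  let 𝒱 : G.left.OpenCover :=
    { I₀ := ch.I, X := fun i => Spec (CommRingCat.of (ch.B i)), f := j,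
      mem₀ := by
        rw [Scheme.presieve₀_mem_precoverage_iff]
        exact ⟨fun x => exists_preimage_of_charts ch x, himm⟩ }
  haveI : QuasiSeparatedSpace G.left := quasiSeparatedSpace_of_quasiSeparated G.hom
  let P : ch.I × ch.I → Scheme.{u} := fun p => pullback (j p.1) (j p.2)
  haveI : ∀ p, CompactSpace (P p) := fun p => by
    haveI : QuasiCompact (j p.2) := quasiCompact_of_compactSpace _
    exact QuasiCompact.compactSpace_of_compactSpace (pullback.fst (j p.1) (j p.2))
  let 𝒲 := fun p => (P p).affineCover.finiteSubcover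
  let Idx := Σ p : ch.I × ch.I, ULift.{u} (𝒲 p).I₀
  let C : Idx → CommRingCat := fun c => Γ((𝒲 c.1).X c.2.down, ⊤)
  let e : ∀ c, Spec (C c) ⟶ P c.1 := fun c => ((𝒲 c.1).X c.2.down).isoSpec.inv ≫ (𝒲 c.1).f c.2.down
  let θ : ∀ c, CommRingCat.of R ⟶ C c := fun c =>
    Spec.preimage (e c ≫ pullback.fst _ _ ≫ j c.1.1 ≫ G.hom)
  letI : ∀ c, Algebra R (C c) := fun c => (θ c).hom.toAlgebra
  have hθ : ∀ c, Spec.map (CommRingCat.ofHom (algebraMap R (C c))) =
      e c ≫ pullback.fst _ _ ≫ j c.1.1 ≫ G.hom := fun c => Spec.map_preimage _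
  have hj : ∀ i, j i ≫ G.hom = Spec.map (CommRingCat.ofHom (algebraMap R (ch.B i))) := fun i => Over.w (ch.g i)
  have hmk : ∀ (c : Idx) (i : ch.I) (q : P c.1 ⟶ Spec (CommRingCat.of (ch.B i))),
      q ≫ j i = pullback.fst _ _ ≫ j c.1.1 →
      ∃ φ : ch.B i →ₐ[R] C c, Spec.map (CommRingCat.ofHom φ.toRingHom) = e c ≫ q := fun c i q hq => by
    refine ⟨{ toRingHom := (Spec.preimage (e c ≫ q)).hom, commutes' := fun r => ?_ }, Spec.map_preimage _⟩
    have e' : CommRingCat.ofHom (algebraMap R (ch.B i)) ≫ Spec.preimage (e c ≫ q) =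
        CommRingCat.ofHom (algebraMap R (C c)) := Spec.map_injective (by
      rw [Spec.map_comp, Spec.map_preimage, hθ, ← hj, Category.assoc, reassoc_of% hq])
    exact congr($e' r)
  choose φ hφ using fun c => hmk c c.1.1 (pullback.fst _ _) rfl
  choose ψ hψ using fun c => hmk c c.1.2 (pullback.snd _ _) pullback.condition.symm
  refine ⟨{ K := Idx, fin := inferInstance, C := fun c => C c, ring := fun c => inferInstance,
            alg := fun c => inferInstance, src := fun c => c.1.1, tgt := fun c => c.1.2, φ := φ, ψ := ψ,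
            comm := fun c => Over.OverMorphism.ext ?_, inj := fun a ha => ?_, glue := fun b hb => ?_ }⟩
  · change Spec.map _ ≫ j c.1.1 = Spec.map _ ≫ j c.1.2
    rw [hφ, hψ]
    simp only [Category.assoc, pullback.condition]
  · have h := congrArg coord (Scheme.Cover.hom_ext 𝒱 (G.left.toSpecΓ ≫ Spec.map (ev _ a))
      (G.left.toSpecΓ ≫ Spec.map (ev _ (0 : Γ(G.left, ⊤)))) fun i => by
        change j i ≫ _ = j i ≫ _
        rw [comp_toSpecΓ, comp_toSpecΓ]
        congr 2
        exact (ha i).trans (by rw [map_zero, map_zero]))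
    rwa [coord_toSpecΓ, coord_toSpecΓ] at h
  · let f : ∀ i, 𝒱.X i ⟶ Spec T := fun i => Spec.map (ev (CommRingCat.of (ch.B i)) (b i))
    have hf : ∀ x y, pullback.fst (𝒱.f x) (𝒱.f y) ≫ f x = pullback.snd _ _ ≫ f y := fun x y => by
      refine Scheme.Cover.hom_ext (𝒲 (x, y)) _ _ fun t => ?_
      rw [← cancel_epi ((𝒲 (x, y)).X t).isoSpec.inv, ← Category.assoc, ← Category.assoc]
      let c : Idx := ⟨(x, y), ⟨t⟩⟩
      change e c ≫ pullback.fst _ _ ≫ Spec.map _ = e c ≫ pullback.snd _ _ ≫ Spec.map _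
      rw [← reassoc_of% (hφ c), ← reassoc_of% (hψ c), ← Spec.map_comp, ← Spec.map_comp]
      congr 1
      refine (ev_comp (CommRingCat.ofHom (φ c).toRingHom) (b x)).trans ?_
      refine Eq.trans ?_ (ev_comp (CommRingCat.ofHom (ψ c).toRingHom) (b y)).symm
      exact congrArg (ev (C c)) (hb c)
    refine ⟨coord (Scheme.Cover.glueMorphisms 𝒱 f hf), fun i => ?_⟩
    refine (coord_comp _ (j i)).trans ?_
    rw [show j i = 𝒱.f i from rfl, Scheme.Cover.ι_glueMorphisms, Spec.preimage_map]
    exact ev_X _ _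

end GModFinLib
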