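import Groth.Agent.GModFinLib.Charts
import Mathlib.LinearAlgebra.TensorProduct.Finiteness
import Mathlib.LinearAlgebra.TensorProduct.RightExactness
import Mathlib.LinearAlgebra.TensorProduct.Pi
import Mathlib.RingTheory.Localization.BaseChange
import Mathlib.RingTheory.Noetherian.Basic

/-!
# Every finitely generated submodule of a module with an action of a flat group lies in a stable one
-/

set_option autoImplicit false
set_option backward.isDefEq.respectTransparency false
universe u

open CategoryTheory MonoidalCategory CartesianMonoidalCategory MonObj GrpObj AlgebraicGeometry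
open scoped TensorProduct

namespace GModFinLib

open VecGrp

variable {R : Type u} [CommRing R] {E Q : Type u} [AddCommGroup E] [Module R E] [AddCommGroup Q] [Module R Q]
  {B C : Type u} [CommRing B] [Algebra R B] [CommRing C] [Algebra R C]

theorem wmap_lTensor (φ : B →ₐ[R] C) (T : E →ₗ[R] Q) (y : B ⊗[R] E) :
    LinearMap.lTensor C T (Wmap φ y) = Wmap φ (LinearMap.lTensor B T y) := by
  induction y with
  | zero => simp
  | tmul b e => simp
  | add x y hx hy => simp only [map_add, hx, hy]

/-- An element of `C ⊗ Q` vanishing after localisation at elements generating the unit ideal is zero. -/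
theorem eq_zero_of_local (z : C ⊗[R] Q) (s : Set C) (hs : Ideal.span s = ⊤)
    (h : ∀ f ∈ s, Wmap ((Algebra.ofId C (Localization.Away f)).restrictScalars R) z = 0) : z = 0 := by
  let I : Ideal C := LinearMap.ker (LinearMap.toSpanSingleton C (C ⊗[R] Q) z)
  have hI : Ideal.span s ≤ I.radical := Ideal.span_le.2 fun f hf => by
    let Cf := Localization.Away f
    have e : ∀ w : C ⊗[R] Q, TensorProduct.AlgebraTensorModule.cancelBaseChange R C Cf Cf Q (1 ⊗ₜ[C] w) =
        Wmap ((Algebra.ofId C Cf).restrictScalars R) w := fun w => by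
      induction w with
      | zero => simp
      | tmul c q => simp [Algebra.smul_def]
      | add x y hx hy => simp only [TensorProduct.tmul_add, map_add, hx, hy]
    have h0 : TensorProduct.mk C Cf (C ⊗[R] Q) 1 z = 0 :=
      (TensorProduct.AlgebraTensorModule.cancelBaseChange R C Cf Cf Q).injective (by
        rw [map_zero]; exact (e z).trans (h f hf))
    obtain ⟨⟨_, n, rfl⟩, hc⟩ :=
      (IsLocalizedModule.eq_zero_iff (Submonoid.powers f) (TensorProduct.mk C Cf (C ⊗[R] Q) 1)).1 h0
    exact ⟨n, hc⟩
  rw [hs, top_le_iff, Ideal.radical_eq_top] at hI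
  have : (1 : C) ∈ I := hI ▸ Submodule.mem_top
  simpa [I] using this

variable {G : Over (Spec (CommRingCat.of R))} [GrpObj G] (m : GMod G E)

/-- The action of a point on elements of `E`. -/
noncomputable def act (g : pt R B ⟶ G) : E →ₗ[R] B ⊗[R] E :=
  (m.ρ B g).toLinearMap.restrictScalars R ∘ₗ TensorProduct.mk R B E 1

@[simp] theorem act_apply (g : pt R B ⟶ G) (x : E) : act m g x = m.ρ B g (1 ⊗ₜ x) := rfl

theorem wmap_act (φ : B →ₐ[R] C) (g : pt R B ⟶ G) (x : E) : Wmap φ (act m g x) = act m (ptMap φ ≫ g) x := by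
  rw [act_apply, act_apply, m.naturality, Wmap_tmul, map_one]

variable (ch : Charts G)

theorem kills_of_charts (T : E →ₗ[R] Q) (x : E) (hx : ∀ i, LinearMap.lTensor (ch.B i) T (act m (ch.g i) x) = 0)
    (g : pt R C ⟶ G) : LinearMap.lTensor C T (act m g x) = 0 := by
  obtain ⟨s, hs, hloc⟩ := ch.loc C g
  refine eq_zero_of_local _ s hs fun f hf => ?_
  obtain ⟨i, φ, hφ⟩ := hloc f hf
  rw [← wmap_lTensor, wmap_act, hφ, ← wmap_act, wmap_lTensor, hx i, map_zero]

/-- Two successive actions are the action of the product. -/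
theorem act_act (g : pt R B ⟶ G) (h : pt R C ⟶ G) (x : E) :
    (TensorProduct.assoc R B C E).symm (LinearMap.lTensor B (act m h) (act m g x)) =
      act m ((ptMap (Algebra.TensorProduct.includeRight : C →ₐ[R] B ⊗[R] C) ≫ h) *
        (ptMap (Algebra.TensorProduct.includeLeft : B →ₐ[R] B ⊗[R] C) ≫ g)) x := by
  have key : ∀ z : B ⊗[R] E, (TensorProduct.assoc R B C E).symm (LinearMap.lTensor B (act m h) z) =
      m.ρ (B ⊗[R] C) (ptMap (Algebra.TensorProduct.includeRight : C →ₐ[R] B ⊗[R] C) ≫ h)
        (Wmap (Algebra.TensorProduct.includeLeft : B →ₐ[R] B ⊗[R] C) z) := by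
    intro z
    induction z with
    | zero => simp
    | add x y hx hy => simp only [map_add, hx, hy]
    | tmul b e =>
      have e1 : ∀ w : C ⊗[R] E, (TensorProduct.assoc R B C E).symm (b ⊗ₜ w) =
          (b ⊗ₜ[R] (1 : C)) • Wmap (Algebra.TensorProduct.includeRight : C →ₐ[R] B ⊗[R] C) w := fun w => by
        induction w with
        | zero => simp
        | tmul c q => simp [TensorProduct.smul_tmul']
        | add x y hx hy => simp only [TensorProduct.tmul_add, map_add, smul_add, hx, hy]
      rw [LinearMap.lTensor_tmul, e1, wmap_act, act_apply, ← LinearEquiv.map_smul, TensorProduct.smul_tmul',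
        smul_eq_mul, _root_.mul_one, Wmap_tmul, Algebra.TensorProduct.includeLeft_apply]
  rw [key, wmap_act, act_apply, act_apply, map_mul]
  rfl

theorem lTensor_pi_eq_zero {κ : Type u} [Finite κ] {Qs : κ → Type u} [∀ i, AddCommGroup (Qs i)]
    [∀ i, Module R (Qs i)] (T : ∀ i, E →ₗ[R] Qs i) (y : B ⊗[R] E)
    (h : ∀ i, LinearMap.lTensor B (T i) y = 0) : LinearMap.lTensor B (LinearMap.pi T) y = 0 := by
  classical
  haveI := Fintype.ofFinite κ
  refine (TensorProduct.piRight R R B Qs).injective ?_
  rw [map_zero]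
  funext i
  refine Eq.trans ?_ (h i)
  clear h
  induction y with
  | zero => simp
  | tmul b e => simp
  | add x y hx hy => simp only [map_add, Pi.add_apply, hx, hy]

include ch in
theorem exists_fg_stable [IsNoetherianRing R] (M : Submodule R E) (hM : M.FG) :
    ∃ N : Submodule R E, M ≤ N ∧ N.FG ∧
      ∀ (B : Type u) [CommRing B] [Algebra R B] (g : pt R B ⟶ G) (x : E), x ∈ N →
        m.ρ B g ((1 : B) ⊗ₜ[R] x) ∈ LinearMap.range (N.subtype.baseChange B) := by
  classical
  obtain ⟨s, hs⟩ := hM
  choose P hPf hP using fun i : ch.I => TensorProduct.exists_finite_submodule_right_of_setFinite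
    ((fun e => act m (ch.g i) e) '' (s : Set E)) (s.finite_toSet.image _)
  let M' : Submodule R E := ⨆ i, P i
  let N : Submodule R E := ⨅ i, LinearMap.ker (LinearMap.lTensor (ch.B i) M'.mkQ ∘ₗ act m (ch.g i))
  have hmemN : ∀ x, x ∈ N ↔ ∀ i, LinearMap.lTensor (ch.B i) M'.mkQ (act m (ch.g i) x) = 0 := fun x => by
    simp [N, Submodule.mem_iInf]
  have hMN : M ≤ N := by
    rw [← hs, Submodule.span_le]
    intro e he
    refine (hmemN e).2 fun i => ?_
    obtain ⟨w, hw⟩ := hP i ⟨e, he, rfl⟩
    change _ = act m (ch.g i) e at hw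
    rw [← hw, ← LinearMap.comp_apply, ← LinearMap.lTensor_comp,
      show M'.mkQ ∘ₗ (P i).subtype = 0 from LinearMap.ext fun p =>
        (Submodule.Quotient.mk_eq_zero M').2 (le_iSup P i p.2), LinearMap.lTensor_zero, LinearMap.zero_apply]
  have hNM' : N ≤ M' := fun x hx => by
    have h1 := congrArg (TensorProduct.lid R (E ⧸ M'))
      (kills_of_charts m ch M'.mkQ x ((hmemN x).1 hx) (1 : pt R R ⟶ G))
    simpa using h1
  refine ⟨N, hMN, ?_, fun B _ _ g x hx => ?_⟩
  · haveI : ∀ i, Module.Finite R (P i) := hPf
    have hM'fg : M'.FG := Submodule.fg_iSup _ fun i => Module.Finite.iff_fg.1 (hPf i)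
    haveI := isNoetherian_of_fg_of_noetherian M' hM'fg
    exact isNoetherian_submodule.1 inferInstance N hNM'
  · have hi : ∀ i, LinearMap.lTensor (ch.B i) N.mkQ (act m (ch.g i) x) = 0 := fun i => by
      let T : E →ₗ[R] ∀ j, ch.B j ⊗[R] (E ⧸ M') :=
        LinearMap.pi fun j => LinearMap.lTensor (ch.B j) M'.mkQ ∘ₗ act m (ch.g j)
      have hker : N = LinearMap.ker T := by
        rw [LinearMap.ker_pi]
      have hinj : Function.Injective (LinearMap.lTensor (ch.B i) (N.liftQ T hker.le)) := by
        haveI := ch.flat i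
        refine Module.Flat.lTensor_preserves_injective_linearMap _ ?_
        rw [← LinearMap.ker_eq_bot]
        exact Submodule.ker_liftQ_eq_bot' _ _ hker
      refine hinj ?_
      rw [map_zero, ← LinearMap.comp_apply, ← LinearMap.lTensor_comp, Submodule.liftQ_mkQ]
      refine lTensor_pi_eq_zero _ _ fun j => ?_
      refine (TensorProduct.assoc R (ch.B i) (ch.B j) (E ⧸ M')).symm.injective ?_
      rw [map_zero, LinearMap.lTensor_comp, LinearMap.comp_apply]
      have e : ∀ w : ch.B i ⊗[R] (ch.B j ⊗[R] E),
          (TensorProduct.assoc R (ch.B i) (ch.B j) (E ⧸ M')).symm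
            (LinearMap.lTensor (ch.B i) (LinearMap.lTensor (ch.B j) M'.mkQ) w) =
          LinearMap.lTensor (ch.B i ⊗[R] ch.B j) M'.mkQ ((TensorProduct.assoc R (ch.B i) (ch.B j) E).symm w) := by
        intro w
        induction w with
        | zero => simp
        | add x y hx hy => simp only [map_add, hx, hy]
        | tmul b y =>
          induction y with
          | zero => simp
          | add x y hx hy => simp only [TensorProduct.tmul_add, map_add] at hx hy ⊢; rw [hx, hy]
          | tmul c q => simp
      rw [e, act_act]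
      exact kills_of_charts m ch M'.mkQ x ((hmemN x).1 hx) _
    have h0 := kills_of_charts m ch N.mkQ x hi g
    exact (lTensor_exact B (LinearMap.exact_subtype_mkQ N) N.mkQ_surjective _).1 h0

end GModFinLib
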