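import Groth.Agent.GModFinLib.GlobFn
import Mathlib.RingTheory.Flat.Basic
import Mathlib.LinearAlgebra.DirectSum.Finsupp
import Mathlib.Algebra.Module.Projective
import Mathlib.CategoryTheory.Monoidal.Cartesian.Mon

/-!
# Finitely generated stable submodules when the ring of global functions is projective
-/

set_option autoImplicit false
set_option backward.isDefEq.respectTransparency false
universe u

open CategoryTheory MonoidalCategory CartesianMonoidalCategory MonObj GrpObj AlgebraicGeometry
open scoped TensorProduct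

namespace GModFinLib

open VecGrp

attribute [local instance] globAlg

variable {R : Type u} [CommRing R] {Q : Type u} [AddCommGroup Q] [Module R Q]

theorem pi_rTensor_surj {κ : Type u} [Finite κ] {B : κ → Type u} [∀ i, AddCommGroup (B i)] [∀ i, Module R (B i)]
    (w : ∀ i, B i ⊗[R] Q) : ∃ y : (∀ i, B i) ⊗[R] Q, ∀ i, (LinearMap.proj i).rTensor Q y = w i := by
  classical
  haveI := Fintype.ofFinite κ
  refine ⟨∑ j, (LinearMap.single R B j).rTensor Q (w j), fun i => ?_⟩
  rw [map_sum, Finset.sum_eq_single i]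
  · rw [← LinearMap.comp_apply, ← LinearMap.rTensor_comp, LinearMap.proj_comp_single_same, LinearMap.rTensor_id,
      LinearMap.id_apply]
  · intro j _ hj
    rw [← LinearMap.comp_apply, ← LinearMap.rTensor_comp, LinearMap.proj_comp_single_ne R B i j hj.symm,
      LinearMap.rTensor_zero, LinearMap.zero_apply]
  · simp

theorem pi_rTensor_ext {κ : Type u} [Finite κ] {B : κ → Type u} [∀ i, AddCommGroup (B i)] [∀ i, Module R (B i)]
    (y : (∀ i, B i) ⊗[R] Q) (h : ∀ i, (LinearMap.proj i).rTensor Q y = 0) : y = 0 := by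
  classical
  haveI := Fintype.ofFinite κ
  have hid : ∑ j, (LinearMap.single R B j) ∘ₗ LinearMap.proj j = LinearMap.id := by
    ext v i
    simp [Finset.sum_apply, Pi.single_apply]
  have e := congrArg (fun T => LinearMap.rTensor Q T y) hid
  simp only [LinearMap.rTensor_id, LinearMap.id_apply] at e
  rw [← e, ← LinearMap.coe_rTensorHom, map_sum, LinearMap.sum_apply]
  refine Finset.sum_eq_zero fun j _ => ?_
  rw [LinearMap.coe_rTensorHom, LinearMap.rTensor_comp, LinearMap.comp_apply, h, map_zero]

variable {G : Over (Spec (CommRingCat.of R))} {ch : Charts G} (ov : Overlaps ch)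

section Equalizer

/-- Restriction of the global functions to the charts. -/
noncomputable def resCharts (ch : Charts G) : Γ(G.left, ⊤) →ₗ[R] ∀ i, ch.B i :=
  LinearMap.pi fun i => (ptVal (ch.g i)).toLinearMap

include ov in
theorem eq_zero_of_flat [Module.Flat R Q] (y : Γ(G.left, ⊤) ⊗[R] Q)
    (h : ∀ i, (ptVal (ch.g i)).toLinearMap.rTensor Q y = 0) : y = 0 := by
  have hinj : Function.Injective (resCharts ch) := (injective_iff_map_eq_zero _).2 fun a ha =>
    ov.inj a fun i => congrFun ha i
  refine Module.Flat.rTensor_preserves_injective_linearMap (M := Q) _ hinj ?_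
  rw [map_zero]
  refine pi_rTensor_ext _ fun i => ?_
  rw [← LinearMap.comp_apply, ← LinearMap.rTensor_comp, resCharts, LinearMap.proj_pi]
  exact h i

theorem exists_glob_of_agree [Module.Flat R Q] (w : ∀ i, ch.B i ⊗[R] Q)
    (hw : ∀ c, (ov.φ c).toLinearMap.rTensor Q (w (ov.src c)) = (ov.ψ c).toLinearMap.rTensor Q (w (ov.tgt c))) :
    ∃ y : Γ(G.left, ⊤) ⊗[R] Q, ∀ i, (ptVal (ch.g i)).toLinearMap.rTensor Q y = w i := by
  let δ : (∀ i, ch.B i) →ₗ[R] ∀ c, ov.C c := LinearMap.pi fun c =>
    (ov.φ c).toLinearMap ∘ₗ LinearMap.proj (ov.src c) - (ov.ψ c).toLinearMap ∘ₗ LinearMap.proj (ov.tgt c)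
  have hex : Function.Exact (resCharts ch) δ := by
    intro b
    constructor
    · intro hb
      obtain ⟨a, ha⟩ := ov.glue b fun c => by
        have := congrFun hb c
        simpa [δ, sub_eq_zero] using this
      exact ⟨a, funext ha⟩
    · rintro ⟨a, rfl⟩
      funext c
      simp only [δ, resCharts, LinearMap.pi_apply, LinearMap.sub_apply, LinearMap.comp_apply, LinearMap.proj_apply,
        AlgHom.toLinearMap_apply, Pi.zero_apply, ← ptVal_comp, ov.comm, sub_self]
  obtain ⟨y, hy⟩ := pi_rTensor_surj w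
  have h0 : δ.rTensor Q y = 0 := by
    refine pi_rTensor_ext _ fun c => ?_
    rw [← LinearMap.comp_apply, ← LinearMap.rTensor_comp, LinearMap.proj_pi, LinearMap.rTensor_sub,
      LinearMap.sub_apply, LinearMap.rTensor_comp, LinearMap.rTensor_comp, LinearMap.comp_apply,
      LinearMap.comp_apply, hy, hy, hw, sub_self]
  obtain ⟨z, rfl⟩ := (Module.Flat.rTensor_exact (M := Q) hex y).1 h0
  refine ⟨z, fun i => ?_⟩
  rw [← hy i, ← LinearMap.comp_apply, ← LinearMap.rTensor_comp, resCharts, LinearMap.proj_pi]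

end Equalizer

variable [GrpObj G] {E : Type u} [AddCommGroup E] [Module R E] (m : GMod G E)

/-- The action of any point is given by the co-action on global functions. -/
theorem act_eq_of_charts (e : E) (a : Γ(G.left, ⊤) ⊗[R] E) (ch : Charts G)
    (ha : ∀ i, (ptVal (ch.g i)).toLinearMap.rTensor E a = act m (ch.g i) e)
    (C : Type u) [CommRing C] [Algebra R C] (h : pt R C ⟶ G) :
    act m h e = (ptVal h).toLinearMap.rTensor E a := by
  rw [← sub_eq_zero]
  obtain ⟨s, hs, hloc⟩ := ch.loc C h
  refine eq_zero_of_local _ s hs fun f hf => ?_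
  obtain ⟨i, χ, hχ⟩ := hloc f hf
  rw [map_sub, wmap_act, hχ, ← wmap_act, ← ha i, sub_eq_zero]
  change χ.toLinearMap.rTensor E ((ptVal (ch.g i)).toLinearMap.rTensor E a) =
    ((Algebra.ofId C (Localization.Away f)).restrictScalars R).toLinearMap.rTensor E ((ptVal h).toLinearMap.rTensor E a)
  rw [← LinearMap.comp_apply, ← LinearMap.rTensor_comp, ← LinearMap.comp_apply, ← LinearMap.rTensor_comp]
  refine congrArg (fun T => LinearMap.rTensor E T a) (LinearMap.ext fun b => ?_)
  simp only [LinearMap.comp_apply, AlgHom.toLinearMap_apply, ← ptVal_comp, hχ]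

theorem lid_rTensor_comm {A B P : Type u} [AddCommGroup A] [Module R A] [AddCommGroup B] [Module R B]
    [AddCommGroup P] [Module R P] (φ : A →ₗ[R] R) (T : B →ₗ[R] P) (a : A ⊗[R] B) :
    T (TensorProduct.lid R B (φ.rTensor B a)) = TensorProduct.lid R P (φ.rTensor P (T.lTensor A a)) := by
  induction a with
  | zero => simp
  | tmul x y => simp
  | add x y hx hy => simp only [map_add, hx, hy]

theorem assoc_rTensor {A B P : Type u} [AddCommGroup A] [Module R A] [AddCommGroup B] [Module R B]
    [AddCommGroup P] [Module R P] (T : A →ₗ[R] B) (d : A ⊗[R] P) (e : Q) :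
    T.rTensor (P ⊗[R] Q) (TensorProduct.assoc R A P Q (d ⊗ₜ e)) =
      TensorProduct.assoc R B P Q (T.rTensor P d ⊗ₜ e) := by
  induction d with
  | zero => simp
  | tmul x y => simp
  | add x y hx hy => simp only [TensorProduct.add_tmul, map_add, hx, hy]

theorem assoc_mem_range {A B : Type u} [AddCommGroup A] [Module R A] [AddCommGroup B] [Module R B]
    (N : Submodule R Q) (d : A ⊗[R] B) (e : Q) (he : e ∈ N) :
    TensorProduct.assoc R A B Q (d ⊗ₜ e) ∈ LinearMap.range (LinearMap.lTensor A (LinearMap.lTensor B N.subtype)) := by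
  induction d with
  | zero => simp
  | tmul x y => exact ⟨x ⊗ₜ (y ⊗ₜ ⟨e, he⟩), by simp⟩
  | add x y hx hy => rw [TensorProduct.add_tmul, map_add]; exact add_mem hx hy

theorem exists_fg_stable_of_projective [QuasiSeparated G.hom] (ch : Charts G)
    (himm : ∀ i, IsOpenImmersion (ch.g i).left) [Module.Projective R Γ(G.left, ⊤)] [Module.Flat R E]
    (M : Submodule R E) (hM : M.FG) :
    ∃ N : Submodule R E, M ≤ N ∧ N.FG ∧
      ∀ (B : Type u) [CommRing B] [Algebra R B] (g : pt R B ⟶ G) (x : E), x ∈ N →
        m.ρ B g ((1 : B) ⊗ₜ[R] x) ∈ LinearMap.range (N.subtype.baseChange B) := by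
  classical
  obtain ⟨ov⟩ := nonempty_overlaps ch himm
  obtain ⟨s₀, hs₀⟩ := hM
  have hco : ∀ e : E, ∃ a : Γ(G.left, ⊤) ⊗[R] E,
      ∀ i, (ptVal (ch.g i)).toLinearMap.rTensor E a = act m (ch.g i) e := fun e =>
    exists_glob_of_agree ov _ fun c => by
      change Wmap (ov.φ c) _ = Wmap (ov.ψ c) _
      rw [wmap_act, wmap_act, ov.comm]
  choose a ha using hco
  obtain ⟨s, hs⟩ := Module.projective_def'.1 (inferInstance : Module.Projective R Γ(G.left, ⊤))
  let fc : E → (Γ(G.left, ⊤) →₀ E) := fun e =>
    TensorProduct.finsuppScalarLeft R E Γ(G.left, ⊤) (s.rTensor E (a e))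
  let φc : Γ(G.left, ⊤) → Γ(G.left, ⊤) →ₗ[R] R := fun l => Finsupp.lapply l ∘ₗ s
  have hfc : ∀ e l, fc e l = TensorProduct.lid R E ((φc l).rTensor E (a e)) := fun e l => by
    simp only [fc, φc]
    rw [TensorProduct.finsuppScalarLeft_apply, ← LinearMap.comp_apply (f := LinearMap.rTensor E (Finsupp.lapply l)),
      ← LinearMap.rTensor_comp]
  have hsum : ∀ e, a e = (fc e).sum fun l x => l ⊗ₜ x := fun e => by
    have h1 : ∀ z : (Γ(G.left, ⊤) →₀ R) ⊗[R] E,
        (Finsupp.linearCombination R id).rTensor E z =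
          (TensorProduct.finsuppScalarLeft R E Γ(G.left, ⊤) z).sum fun l x => l ⊗ₜ x := fun z => by
      induction z with
      | zero => simp
      | add x y hx hy =>
        rw [map_add, hx, hy, map_add, Finsupp.sum_add_index'
          (fun l => TensorProduct.tmul_zero _ l) fun l p q => TensorProduct.tmul_add l p q]
      | tmul p y =>
        induction p using Finsupp.induction_linear with
        | zero => simp
        | add p q hp hq =>
          rw [TensorProduct.add_tmul, map_add, hp, hq, map_add, Finsupp.sum_add_index'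
            (fun l => TensorProduct.tmul_zero _ l) fun l p q => TensorProduct.tmul_add l p q]
        | single l r => simp [TensorProduct.smul_tmul', TensorProduct.finsuppScalarLeft_apply_tmul]
    rw [← h1, ← LinearMap.comp_apply, ← LinearMap.rTensor_comp, hs, LinearMap.rTensor_id, LinearMap.id_apply]
  let S : Finset E := s₀.biUnion fun e => (fc e).support.image (fc e)
  let N : Submodule R E := Submodule.span R S
  have hmem : ∀ e ∈ s₀, ∀ l, fc e l ∈ N := fun e he l => by
    by_cases h : l ∈ (fc e).support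
    · exact Submodule.subset_span (Finset.mem_biUnion.2 ⟨e, he, Finset.mem_image_of_mem _ h⟩)
    · rw [Finsupp.notMem_support_iff.1 h]
      exact zero_mem _
  refine ⟨N, ?_, ⟨S, rfl⟩, fun B _ _ g x hx => ?_⟩
  · rw [← hs₀, Submodule.span_le]
    intro e he
    have h1 := act_eq_of_charts m e (a e) ch (ha e) R (1 : pt R R ⟶ G)
    rw [hsum, Finsupp.sum, map_sum] at h1
    have h2 := congrArg (TensorProduct.lid R E) h1
    rw [map_sum, act_apply, map_one, LinearEquiv.coe_one, id_eq, TensorProduct.lid_tmul, one_smul] at h2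
    rw [h2]
    exact N.sum_mem fun l _ => by
      rw [LinearMap.rTensor_tmul, TensorProduct.lid_tmul]
      exact N.smul_mem _ (hmem e he l)
  · suffices hch : ∀ j, ∀ e ∈ s₀, ∀ l, LinearMap.lTensor (ch.B j) N.mkQ (act m (ch.g j) (fc e l)) = 0 by
      have hch' : ∀ j, LinearMap.lTensor (ch.B j) N.mkQ (act m (ch.g j) x) = 0 := fun j => by
        suffices hle : N ≤ LinearMap.ker (LinearMap.lTensor (ch.B j) N.mkQ ∘ₗ act m (ch.g j)) from hle hx
        refine Submodule.span_le.2 fun y hy => ?_
        obtain ⟨e, he, hy⟩ := Finset.mem_biUnion.1 hy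
        obtain ⟨l, -, rfl⟩ := Finset.mem_image.1 hy
        exact hch j e he l
      exact (lTensor_exact B (LinearMap.exact_subtype_mkQ N) N.mkQ_surjective _).1
        (kills_of_charts m ch N.mkQ x hch' g)
    intro j e he l
    haveI : Module.Flat R (ch.B j) := ch.flat j
    let incl : ∀ (A : Type u) [CommRing A] [Algebra R A], pt R (A ⊗[R] ch.B j) ⟶ pt R A := fun A _ _ =>
      ptMap Algebra.TensorProduct.includeLeft
    let prod : ∀ (A : Type u) [CommRing A] [Algebra R A], (pt R A ⟶ G) → (pt R (A ⊗[R] ch.B j) ⟶ G) :=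
      fun A _ _ h => (ptMap (Algebra.TensorProduct.includeRight : ch.B j →ₐ[R] A ⊗[R] ch.B j) ≫ ch.g j) *
        (incl A ≫ h)
    have hprod : ∀ {A A' : Type u} [CommRing A] [Algebra R A] [CommRing A'] [Algebra R A'] (χ : A →ₐ[R] A')
        (h : pt R A ⟶ G), ptMap (Algebra.TensorProduct.map χ (AlgHom.id R (ch.B j))) ≫ prod A h =
          prod A' (ptMap χ ≫ h) := fun {A A'} _ _ _ _ χ h => by
      simp only [prod, incl]
      rw [MonObj.comp_mul, ← Category.assoc, ← Category.assoc, ← Category.assoc]
      congr 1 <;> congr 1 <;> refine Over.OverMorphism.ext ?_ <;>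
        simp only [Over.comp_left, ptMap_left, LieS.specMap_comp]
      · congr 2
        ext b
        simp
      · congr 2
    have hd : ∀ b : Γ(G.left, ⊤), ∃ d : Γ(G.left, ⊤) ⊗[R] ch.B j,
        ∀ i, (ptVal (ch.g i)).toLinearMap.rTensor (ch.B j) d = ptVal (prod _ (ch.g i)) b := fun b =>
      exists_glob_of_agree ov _ fun c => by
        change Algebra.TensorProduct.map (ov.φ c) (AlgHom.id R (ch.B j)) _ =
          Algebra.TensorProduct.map (ov.ψ c) (AlgHom.id R (ch.B j)) _
        rw [← ptVal_comp, ← ptVal_comp, hprod, hprod, ov.comm]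
    choose d hd using hd
    let z : Γ(G.left, ⊤) ⊗[R] (ch.B j ⊗[R] E) := LinearMap.lTensor _ (act m (ch.g j)) (a e)
    let z' : Γ(G.left, ⊤) ⊗[R] (ch.B j ⊗[R] E) :=
      (fc e).sum fun k x => TensorProduct.assoc R _ _ _ (d k ⊗ₜ x)
    have hz : z = z' := by
      rw [← sub_eq_zero]
      refine eq_zero_of_flat ov _ fun i => ?_
      rw [map_sub, sub_eq_zero]
      calc (ptVal (ch.g i)).toLinearMap.rTensor _ z
          = LinearMap.lTensor _ (act m (ch.g j)) ((ptVal (ch.g i)).toLinearMap.rTensor E (a e)) := by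
            simp only [z]
            rw [← LinearMap.comp_apply, ← LinearMap.comp_apply, LinearMap.rTensor_comp_lTensor,
              LinearMap.lTensor_comp_rTensor]
        _ = LinearMap.lTensor _ (act m (ch.g j)) (act m (ch.g i) e) := by rw [ha]
        _ = TensorProduct.assoc R _ _ _ (act m (prod _ (ch.g i)) e) :=
            (TensorProduct.assoc R _ _ _).symm_apply_eq.1 (act_act m (ch.g i) (ch.g j) e)
        _ = TensorProduct.assoc R _ _ _ ((ptVal (prod _ (ch.g i))).toLinearMap.rTensor E (a e)) := by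
            rw [act_eq_of_charts m e (a e) ch (ha e)]
        _ = (ptVal (ch.g i)).toLinearMap.rTensor _ z' := by
            rw [hsum]
            simp only [z', Finsupp.sum, map_sum, assoc_rTensor, hd, LinearMap.rTensor_tmul,
              AlgHom.toLinearMap_apply]
    have hr : z ∈ LinearMap.range (LinearMap.lTensor _ (LinearMap.lTensor (ch.B j) N.subtype)) := by
      rw [hz]
      exact Submodule.sum_mem _ fun k _ => assoc_mem_range N _ _ (hmem e he k)
    obtain ⟨w, hw⟩ := hr
    rw [hfc, lid_rTensor_comm (φc l) (act m (ch.g j)) (a e)]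
    change LinearMap.lTensor _ N.mkQ (TensorProduct.lid R _ ((φc l).rTensor _ z)) = 0
    rw [← hw, ← lid_rTensor_comm (φc l) (LinearMap.lTensor (ch.B j) N.subtype) w, ← LinearMap.comp_apply,
      ← LinearMap.lTensor_comp, (LinearMap.exact_subtype_mkQ N).linearMap_comp_eq_zero, LinearMap.lTensor_zero,
      LinearMap.zero_apply]

end GModFinLib
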